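import Groth.Agent.FlatMorH1.Closed
import Groth.Agent.H8Lim.TopDegreeApps
import Groth.Agent.FlatMorDim.BaseChange
import Groth.Agent.FlatMorDim.Semicont
import Mathlib.RingTheory.Flat.FaithfullyFlat.Basic

/-!
# `H¹` on proper schemes with fibres of dimension at most one: arbitrary base change
-/

set_option autoImplicit false
set_option backward.isDefEq.respectTransparency false
set_option linter.style.haveILetI false

universe u

open CategoryTheory CategoryTheory.Limits AlgebraicGeometry Opposite TopologicalSpace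
open Groth.Agent.Coherent
open scoped TensorProduct

namespace Groth.Agent.FlatMorH1

/-- No `H¹` of the structure module. -/
abbrev NoH1 (X : Scheme.{u}) : Prop := Subsingleton (Coh.HH X (Coh.structureModule X) 1)

theorem noH1_congr {Z Z' : Scheme.{u}} (e : Z' ≅ Z) : NoH1 Z' ↔ NoH1 Z := by
  suffices h : ∀ {W W' : Scheme.{u}} (e : W' ≅ W), NoH1 W → NoH1 W' from ⟨h e.symm, h e⟩
  intro W W' e hW
  haveI : Coh.IsQCoh (Coh.structureModule W') := isQCoh_structureModule
  haveI : IsIso (Coherent.Serre.toSub e.hom) := by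
    refine Scheme.Modules.Hom.isIso_iff_isIso_app.2 fun U =>
      (ConcreteCategory.isIso_iff_bijective _).2 ?_
    have hb := (ConcreteCategory.isIso_iff_bijective (e.hom.app U)).1 inferInstance
    exact ⟨fun a b hab => hb.1 ((Coherent.Serre.toSub_app e.hom U a).symm.trans
      (hab.trans (Coherent.Serre.toSub_app e.hom U b))),
      fun z => (hb.2 z).imp fun a ha => (Coherent.Serre.toSub_app e.hom U a).trans ha⟩
  haveI : Subsingleton (Coh.HH W (Coh.structureModule W) 1) := hW
  refine (HHAffinePushEquiv e.hom (Coh.structureModule W') 1).toEquiv.subsingleton_congr.2 ?_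
  exact (((Sheaf.functorH (Opens.grothendieckTopology W) 1).mapIso
    ((SheafOfModules.toSheaf W.ringCatSheaf).mapIso
      (asIso (Coherent.Serre.toSub e.hom)))).addCommGroupIsoToAddEquiv).symm.toEquiv.subsingleton_congr.2 hW

/-- Surjectivity is stable under cobase change. -/
theorem surjective_of_isPushout {A P R R' : CommRingCat.{u}} {rA : A ⟶ R} {φ : A ⟶ P} {f : R ⟶ R'}
    {b : P ⟶ R'} (h : IsPushout rA φ f b) (hr : Function.Surjective rA) : Function.Surjective b := by
  let S : Subring R' := b.hom.range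
  have hf : ∀ r, f r ∈ S := fun r => by
    obtain ⟨a, rfl⟩ := hr r
    exact ⟨φ a, (ConcreteCategory.congr_hom h.w a).symm⟩
  let f' : R ⟶ CommRingCat.of S := CommRingCat.ofHom (f.hom.codRestrict S hf)
  let b' : P ⟶ CommRingCat.of S := CommRingCat.ofHom b.hom.rangeRestrict
  have w : rA ≫ f' = φ ≫ b' :=
    CommRingCat.hom_ext (RingHom.ext fun a => Subtype.ext (ConcreteCategory.congr_hom h.w a))
  let d := h.desc f' b' w
  have hd : d ≫ CommRingCat.ofHom S.subtype = 𝟙 R' := by
    refine h.hom_ext ?_ ?_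
    · rw [h.inl_desc_assoc, Category.comp_id]; rfl
    · rw [h.inr_desc_assoc, Category.comp_id]; rfl
  intro z
  obtain ⟨p, hp⟩ := (d z).2
  exact ⟨p, hp.trans (ConcreteCategory.congr_hom hd z)⟩

section Flat

variable {A B : Type u} [CommRing A] [CommRing B] [Algebra A B] [Module.Flat A B]
variable {X X' : Scheme.{u}} [X.Over (Spec (CommRingCat.of A))] [X'.Over (Spec (CommRingCat.of B))]
variable [CompactSpace X] [QuasiSeparatedSpace X] (g : X' ⟶ X)
variable (h : IsPullback g (X' ↘ Spec (CommRingCat.of B)) (X ↘ Spec (CommRingCat.of A))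
      (Spec.map (CommRingCat.ofHom (algebraMap A B))))

include h

theorem nonempty_H1_flat :
    Nonempty (B ⊗[A] Coh.HH X (Coh.structureModule X) 1 ≃+ Coh.HH X' (Coh.structureModule X') 1) := by
  haveI : Coh.IsQCoh (Coh.structureModule X) := isQCoh_structureModule
  obtain ⟨e⟩ := nonempty_flat_base_change (M := Coh.structureModule X) g h 1
  obtain ⟨i⟩ := AmpleLib.exists_pullStructureIso (X := X) g
  exact ⟨e.toAddEquiv.trans ((Sheaf.functorH (Opens.grothendieckTopology X') 1).mapIso
    ((SheafOfModules.toSheaf X'.ringCatSheaf).mapIso i)).addCommGroupIsoToAddEquiv⟩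

theorem noH1_flat (h0 : NoH1 X) : NoH1 X' := by
  obtain ⟨e⟩ := nonempty_H1_flat g h
  haveI : Subsingleton (B ⊗[A] Coh.HH X (Coh.structureModule X) 1) :=
    subsingleton_of_forall_eq 0 fun z => by
      induction z using TensorProduct.induction_on with
      | zero => rfl
      | add u v hu hv => rw [hu, hv, add_zero]
      | tmul b x => rw [h0.elim x 0, TensorProduct.tmul_zero]
  exact e.symm.toEquiv.subsingleton

theorem surjective_appTop_flat (hs : Function.Surjective (X ↘ Spec (CommRingCat.of A)).appTop) :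
    Function.Surjective (X' ↘ Spec (CommRingCat.of B)).appTop := by
  haveI : Flat (Spec.map (CommRingCat.ofHom (algebraMap A B))) := by
    rw [HasRingHomProperty.Spec_iff (P := @Flat)]
    exact RingHom.flat_algebraMap_iff.2 inferInstance
  have hi := isIso_pushoutSection_of_isQuasiSeparated_of_flat_right h (US := ⊤) (UT := ⊤) (UX := ⊤) (UY := ⊤)
    (by simp) (by simp) (by simp) (isAffineOpen_top _) (isAffineOpen_top _) isCompact_univ
    isQuasiSeparated_univ
  have hp := (isIso_pushoutSection_iff ..).1 hi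
  have := surjective_of_isPushout hp (by simpa [Scheme.Hom.appLE, Scheme.Hom.appTop] using hs)
  simpa [Scheme.Hom.appLE, Scheme.Hom.appTop] using this

end Flat

variable {X X' : Scheme.{u}}

theorem fiber_dim_le_baseChange {Y Y' : Scheme.{u}} {g : X' ⟶ X} {π' : X' ⟶ Y'} {π : X ⟶ Y}
    {q : Y' ⟶ Y} (h : IsPullback g π' π q) [LocallyOfFiniteType π] {c : WithBot ℕ∞}
    (hd : ∀ y, topologicalKrullDim ↥(π.fiber y) ≤ c) (y' : Y') : topologicalKrullDim ↥(π'.fiber y') ≤ c := by
  rw [FlatMorDim.fiber_dim_baseChange h y']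
  exact hd _

/-- Base change of vanishing of `H¹` and of surjectivity of global functions, along any ring map. -/
theorem baseChange {A B : Type u} [CommRing A] [CommRing B] (φ : A →+* B) {π : X ⟶ Spec (CommRingCat.of A)}
    [IsProper π] {π' : X' ⟶ Spec (CommRingCat.of B)} {g : X' ⟶ X}
    (h : IsPullback g π' π (Spec.map (CommRingCat.ofHom φ)))
    (hd : ∀ y, topologicalKrullDim ↥(π.fiber y) ≤ (1 : ℕ)) (h0 : NoH1 X) :
    NoH1 X' ∧ (Function.Surjective π.appTop → Function.Surjective π'.appTop) := by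
  let _ : Algebra A B := φ.toAlgebra
  let P := MvPolynomial B A
  let ev : P →ₐ[A] B := MvPolynomial.aeval id
  have hev : Function.Surjective ev := fun b => ⟨MvPolynomial.X b, MvPolynomial.aeval_X _ b⟩
  let _ : Algebra P B := ev.toRingHom.toAlgebra
  let qA := Spec.map (CommRingCat.ofHom (algebraMap A P))
  let qB := Spec.map (CommRingCat.ofHom (algebraMap P B))
  have hq : qB ≫ qA = Spec.map (CommRingCat.ofHom φ) := by
    rw [← Spec.map_comp, ← CommRingCat.ofHom_comp]
    exact congrArg (fun z : A →+* B => Spec.map (CommRingCat.ofHom z)) ev.comp_algebraMap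
  let XP : Scheme.{u} := pullback π qA
  let πP : XP ⟶ Spec (CommRingCat.of P) := pullback.snd π qA
  have w : g ≫ π = (π' ≫ qB) ≫ qA := by rw [Category.assoc, hq]; exact h.w
  let g₁ : X' ⟶ XP := pullback.lift g (π' ≫ qB) w
  have hX : IsPullback (pullback.fst π qA) πP π qA := IsPullback.of_hasPullback π qA
  have h₁ : IsPullback g₁ π' πP qB := IsPullback.of_right
    (by rw [pullback.lift_fst, hq]; exact h) (pullback.lift_snd _ _ _) hX
  haveI : IsProper πP := MorphismProperty.pullback_snd (P := @IsProper) π qA inferInstance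
  have hdP := fiber_dim_le_baseChange hX hd
  haveI : CompactSpace X := QuasiCompact.compactSpace_of_compactSpace π
  haveI : QuasiSeparatedSpace X := quasiSeparatedSpace_of_quasiSeparated π
  letI : X.Over (Spec (CommRingCat.of A)) := ⟨π⟩
  letI : XP.Over (Spec (CommRingCat.of P)) := ⟨πP⟩
  letI : X'.Over (Spec (CommRingCat.of B)) := ⟨π'⟩
  haveI : IsProper (XP ↘ Spec (CommRingCat.of P)) := inferInstanceAs (IsProper πP)
  have h0P : NoH1 XP := noH1_flat (A := A) (B := P) (pullback.fst π qA) hX h0
  refine ⟨subsingleton_H1_closed (A := P) (B := B) g₁ hdP h₁ hev h0P, fun hs => ?_⟩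
  have hsP : Function.Surjective πP.appTop := surjective_appTop_flat (A := A) (B := P) (pullback.fst π qA) hX hs
  have hc : Function.Surjective g₁.appTop := surjective_appTop_closed (A := P) (B := B) g₁ hdP h₁ hev h0P
  intro z
  obtain ⟨u, rfl⟩ := hc z
  obtain ⟨p, rfl⟩ := hsP u
  exact ⟨qB.appTop p, congrArg (fun m : X' ⟶ Spec (CommRingCat.of P) => m.appTop p) h₁.w.symm⟩

theorem finite_H1_of_local {A : Type u} [CommRing A] [IsLocalRing A] (π : X ⟶ Spec (CommRingCat.of A))
    [IsProper π] (hd : topologicalKrullDim ↥(π.fiber (IsLocalRing.closedPoint A)) ≤ (1 : ℕ)) :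
    letI : X.Over (Spec (CommRingCat.of A)) := ⟨π⟩
    Module.Finite A (Coh.HH X (Coh.structureModule X) 1) := by
  letI : X.Over (Spec (CommRingCat.of A)) := ⟨π⟩
  obtain ⟨V, hV, hVa, hm⟩ := H8Lim.exists_model_nhd π (IsLocalRing.closedPoint A) 1 hd
  have htop : V = ⊤ := top_le_iff.1 fun y _ => (IsLocalRing.specializes_closedPoint y).mem_open V.2 hV
  subst htop
  have hsq : IsPullback (π ⁻¹ᵁ ⊤).ι (π ∣_ ⊤) π (⊤ : (Spec (CommRingCat.of A)).Opens).ι :=
    (isPullback_morphismRestrict π ⊤).flip
  haveI : IsIso (⊤ : (Spec (CommRingCat.of A)).Opens).ι := by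
    rw [← Scheme.topIso_hom]; infer_instance
  haveI : IsIso (π ⁻¹ᵁ ⊤).ι := MorphismProperty.of_isPullback (P := MorphismProperty.isomorphisms Scheme.{u}) hsq.flip
    (MorphismProperty.isomorphisms.infer_property _)
  have hm' := hm.baseChange (t := inv (⊤ : (Spec (CommRingCat.of A)).Opens).ι) (a := inv (π ⁻¹ᵁ ⊤).ι) (p' := π)
    (IsPullback.of_horiz_isIso ⟨by rw [IsIso.inv_comp_eq, ← Category.assoc, IsIso.eq_comp_inv, hsq.w]⟩)
  have hcoh : Coh.IsCoh (Coh.structureModule X) :=
    (isCoh_iff_finite_sections _).2 ⟨isQCoh_structureModule, fun U _ => Module.Finite.self Γ(X, U)⟩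
  have hH := hm'.finite_HA (Coh.structureModule X) hcoh
  exact finite_of_semilinear (A := Γ(Spec (CommRingCat.of A), ⊤))
    (M := HA π.appTop.hom (Coh.structureModule X) (⊤ : X.Opens) 1)
    (HHLinEquiv (Coh.structureModule X) 1).symm.toAddEquiv.toAddMonoidHom
    (HHLinEquiv (Coh.structureModule X) 1).symm.surjective fun a x =>
    ⟨(Scheme.ΓSpecIso (CommRingCat.of A)).hom a, by
      refine ((HHLinEquiv (Coh.structureModule X) 1).symm.map_smul (π.appTop a) x).trans ?_
      exact (congrArg (fun t : Γ(X, ⊤) => t • (HHLinEquiv (Coh.structureModule X) 1).symm x)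
        (congrArg π.appTop (Iso.hom_inv_id_apply (Scheme.ΓSpecIso (CommRingCat.of A)) a))).symm⟩

/-- Over a local base, vanishing on the closed fibre gives vanishing. -/
theorem noH1_of_local {A : Type u} [CommRing A] [IsLocalRing A] (π : X ⟶ Spec (CommRingCat.of A))
    [IsProper π] (hd : topologicalKrullDim ↥(π.fiber (IsLocalRing.closedPoint A)) ≤ (1 : ℕ))
    (h0 : NoH1 (π.fiber (IsLocalRing.closedPoint A))) : NoH1 X := by
  letI : X.Over (Spec (CommRingCat.of A)) := ⟨π⟩
  haveI hfin := finite_H1_of_local π hd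
  let y : ↥(Spec (CommRingCat.of A)) := IsLocalRing.closedPoint A
  have hdall : ∀ z, topologicalKrullDim ↥(π.fiber z) ≤ (1 : ℕ) := fun z =>
    (IsLocalRing.specializes_closedPoint z).mem_open (FlatMorDim.isOpen_fiber_dim_le π _) hd
  let κ := (Spec (CommRingCat.of A)).residueField y
  let α : CommRingCat.of A ⟶ κ := Spec.preimage ((Spec (CommRingCat.of A)).fromSpecResidueField y)
  letI : Algebra A κ := α.hom.toAlgebra
  have hα : Spec.map (CommRingCat.ofHom (algebraMap A κ)) = (Spec (CommRingCat.of A)).fromSpecResidueField y :=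
    Spec.map_preimage _
  have hclosed : IsClosed ({y} : Set ↥(Spec (CommRingCat.of A))) := IsLocalRing.isClosed_singleton_closedPoint A
  haveI : IsClosedImmersion ((Spec (CommRingCat.of A)).fromSpecResidueField y) :=
    isClosed_singleton_iff_isClosedImmersion.1 hclosed
  have hs : Function.Surjective (algebraMap A κ) := by
    haveI : IsClosedImmersion (Spec.map (CommRingCat.ofHom (algebraMap A κ))) := by rw [hα]; infer_instance
    have h2 := (IsClosedImmersion.isAffine_surjective_of_isAffine
      (Spec.map (CommRingCat.ofHom (algebraMap A κ)))).2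
    intro z
    obtain ⟨t, ht⟩ := h2 ((Scheme.ΓSpecIso κ).inv z)
    refine ⟨(Scheme.ΓSpecIso (CommRingCat.of A)).hom t, ?_⟩
    refine (ConcreteCategory.congr_hom (Scheme.ΓSpecIso_naturality (CommRingCat.ofHom (algebraMap A κ))) t).symm.trans ?_
    exact (congrArg (Scheme.ΓSpecIso κ).hom ht).trans (Iso.inv_hom_id_apply _ z)
  letI : (π.fiber y).Over (Spec (CommRingCat.of κ)) := ⟨π.fiberToSpecResidueField y⟩
  have h : IsPullback (π.fiberι y) ((π.fiber y) ↘ Spec (CommRingCat.of κ)) (X ↘ Spec (CommRingCat.of A))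
      (Spec.map (CommRingCat.ofHom (algebraMap A κ))) := by
    rw [hα]
    exact IsPullback.of_hasPullback π _
  haveI : IsProper (X ↘ Spec (CommRingCat.of A)) := inferInstanceAs (IsProper π)
  have hI := smul_top_eq_top (π.fiberι y) hdall h hs h0
  have hle : RingHom.ker (algebraMap A κ) ≤ Ideal.jacobson (⊥ : Ideal A) :=
    (IsLocalRing.le_maximalIdeal (RingHom.ker_ne_top _)).trans
      (IsLocalRing.jacobson_eq_maximalIdeal (⊥ : Ideal A) bot_ne_top).ge
  have hbot : (⊤ : Submodule A (Coh.HH X (Coh.structureModule X) 1)) = ⊥ :=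
    Submodule.eq_bot_of_le_smul_of_le_jacobson_bot _ _ Module.Finite.fg_top hI.ge hle
  exact subsingleton_of_forall_eq 0 fun x => (Submodule.mem_bot A).1 (hbot ▸ Submodule.mem_top)

end Groth.Agent.FlatMorH1
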