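import Groth.Agent.FlatMorH1.Local

/-!
# Consequences of the vanishing of `H¹` of fibres
-/

set_option autoImplicit false
set_option backward.isDefEq.respectTransparency false
set_option linter.style.haveILetI false

universe u

open CategoryTheory CategoryTheory.Limits AlgebraicGeometry Opposite TopologicalSpace
open Groth.Agent.Coherent Groth.Agent.EulerLib

namespace Groth.Agent.FlatMorH1

variable {X Y : Scheme.{u}}

/-- Sections over an affine open are surjective along an epimorphism of quasi-coherent modules. -/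
theorem surjective_app_of_epi {M N : X.Modules} (φ : M ⟶ N) [Epi φ] [Coh.IsQCoh M] [Coh.IsQCoh N]
    {U : X.Opens} (hU : IsAffineOpen U) : Function.Surjective (φ.app U) := fun x => by
  haveI : Coh.IsQCoh (kernel φ) := isQCoh_kernel φ
  let S : ShortComplex X.Modules := ShortComplex.mk (kernel.ι φ) φ (kernel.condition _)
  have hS : S.ShortExact := { exact := ShortComplex.exact_kernel φ }
  haveI : Subsingleton (HA (RingHom.id Γ(X, ⊤)) S.X₁ U 1) := subsingleton_H'_qcoh (kernel φ) hU 0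
  let ρ := RingHom.id Γ(X, ⊤)
  let eN := secH (X := X.toTopCat) (Coh.toAb S.X₃) U
  obtain ⟨y, hy⟩ := (exact_postA_deltaA ρ hS U 0 (eN.symm x)).1 (Subsingleton.elim _ _)
  refine ⟨secH (X := X.toTopCat) (Coh.toAb S.X₂) U y, ?_⟩
  rw [← AddEquiv.apply_symm_apply eN x, ← hy]
  exact (secH_postH (X := X.toTopCat) ((toAbFunctor X).map S.g) U y).symm

/-- The global functions over an affine open of the base, on the base change to it. -/
theorem surjective_app_iff {f : X ⟶ Y} {U : Y.Opens} (hU : IsAffineOpen U) {P : Scheme.{u}} {a : P ⟶ X}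
    {b : P ⟶ Spec Γ(Y, U)} (h : IsPullback a b f hU.fromSpec) :
    Function.Surjective (f.app U) ↔ Function.Surjective b.appTop := by
  haveI : IsOpenImmersion a := MorphismProperty.of_isPullback (P := @IsOpenImmersion) h.flip inferInstance
  have hr : a.opensRange = f ⁻¹ᵁ U := by
    refine TopologicalSpace.Opens.ext ?_
    show Set.range a = f ⁻¹' (U : Set Y)
    rw [← h.isoPullback_hom_fst, Scheme.Hom.comp_base, TopCat.coe_comp, Set.range_comp,
      show Set.range h.isoPullback.hom = Set.univ from Set.range_eq_univ.2 h.isoPullback.hom.homeomorph.surjective, Set.image_univ,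
      Scheme.Pullback.range_fst, hU.range_fromSpec]
  have e1 : (⊤ : P.Opens) ≤ a ⁻¹ᵁ (f ⁻¹ᵁ U) := fun p _ => hr.le ⟨p, rfl⟩
  have e2 : (⊤ : (Spec Γ(Y, U)).Opens) ≤ hU.fromSpec ⁻¹ᵁ U := hU.fromSpec_preimage_self.ge
  have hA : Function.Bijective (a.appLE (f ⁻¹ᵁ U) ⊤ e1) := by
    haveI : IsIso (a.app (f ⁻¹ᵁ U)) := a.isIso_app _ hr.ge
    have htop : a ⁻¹ᵁ (f ⁻¹ᵁ U) = ⊤ := top_le_iff.1 e1
    have : IsIso (a.appLE (f ⁻¹ᵁ U) ⊤ e1) := by
      rw [Scheme.Hom.appLE]
      haveI : IsIso (P.presheaf.map (homOfLE e1).op) := by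
        rw [show (homOfLE e1).op = eqToHom (congrArg op htop) from Subsingleton.elim _ _]
        infer_instance
      infer_instance
    exact (ConcreteCategory.isIso_iff_bijective _).1 this
  have hB : Function.Bijective (hU.fromSpec.appLE U ⊤ e2) := by
    have : IsIso (hU.fromSpec.appLE U ⊤ e2) := by
      rw [Scheme.Hom.appLE]
      haveI : IsIso ((Spec Γ(Y, U)).presheaf.map (homOfLE e2).op) := by
        rw [show (homOfLE e2).op = eqToHom (congrArg op hU.fromSpec_preimage_self) from Subsingleton.elim _ _]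
        infer_instance
      haveI : IsIso (hU.fromSpec.app U) := hU.fromSpec.isIso_app _ (by rw [hU.opensRange_fromSpec])
      infer_instance
    exact (ConcreteCategory.isIso_iff_bijective _).1 this
  have key : f.app U ≫ a.appLE (f ⁻¹ᵁ U) ⊤ e1 = hU.fromSpec.appLE U ⊤ e2 ≫ b.appTop := by
    rw [Scheme.Hom.app_eq_appLE, Scheme.Hom.appTop, Scheme.Hom.app_eq_appLE,
      Scheme.Hom.appLE_comp_appLE, Scheme.Hom.appLE_comp_appLE]
    congr 1
    exact h.w
  have key' : ⇑(a.appLE (f ⁻¹ᵁ U) ⊤ e1) ∘ ⇑(f.app U) = ⇑b.appTop ∘ ⇑(hU.fromSpec.appLE U ⊤ e2) :=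
    funext fun x => ConcreteCategory.congr_hom key x
  constructor
  · intro hs
    have := key' ▸ hA.2.comp hs
    exact this.of_comp
  · intro hs x
    obtain ⟨r, hr⟩ := (hs.comp hB.2) (a.appLE (f ⁻¹ᵁ U) ⊤ e1 x)
    exact ⟨r, hA.1 ((congrFun key' r).trans hr)⟩

theorem isPullback_preimage {f : X ⟶ Y} {U : Y.Opens} (hU : IsAffineOpen U) :
    IsPullback (f ⁻¹ᵁ U).ι ((f ∣_ U) ≫ hU.isoSpec.hom) f hU.fromSpec :=
  (isPullback_morphismRestrict f U).flip.of_iso (Iso.refl _) (Iso.refl _) hU.isoSpec (Iso.refl _)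
    (by simp) (by simp) (by simp) (by rw [← hU.isoSpec_inv_ι]; simp)

theorem noH1_over_affine (f : X ⟶ Y) [IsProper f] (hd : ∀ y, topologicalKrullDim ↥(f.fiber y) ≤ (1 : ℕ))
    (h0 : ∀ y, NoH1 (f.fiber y)) {U : Y.Opens} (hU : IsAffineOpen U) :
    NoH1 (pullback f hU.fromSpec) := by
  have h := IsPullback.of_hasPullback f hU.fromSpec
  haveI : IsProper (pullback.snd f hU.fromSpec) := MorphismProperty.pullback_snd (P := @IsProper) _ _ inferInstance
  exact noH1_of_fibres (pullback.snd f hU.fromSpec) (fiber_dim_le_baseChange h hd)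
    fun y => (noH1_fiber_iff h y).2 (h0 _)

/-- Surjectivity of `O → f_*O` is stable under base change. -/
theorem surjective_baseChange {X' Y' : Scheme.{u}} (f : X ⟶ Y) [IsProper f]
    (hd : ∀ y, topologicalKrullDim ↥(f.fiber y) ≤ (1 : ℕ)) (h0 : ∀ y, NoH1 (f.fiber y))
    (hsurj : ∀ U : Y.Opens, IsAffineOpen U → Function.Surjective (f.app U))
    (f' : X' ⟶ Y') (g' : X' ⟶ X) (g : Y' ⟶ Y) (hc : IsPullback g' f' f g) (U' : Y'.Opens)
    (hU' : IsAffineOpen U') : Function.Surjective (f'.app U') := by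
  haveI : IsProper f' := MorphismProperty.of_isPullback (P := @IsProper) hc inferInstance
  haveI : Coh.IsQCoh (Coh.structureModule Y') := isQCoh_structureModule
  haveI : Coh.IsQCoh (Coh.structureModule X') := isQCoh_structureModule
  haveI : Coh.IsQCoh ((Coh.push f').obj (Coh.structureModule X')) := isQCoh_push f' _
  haveI : Epi (Coherent.Serre.toSub f') := by
    refine epi_of_locally_surjective _ fun W a y hy => ?_
    obtain ⟨U, hU, hyU, -⟩ := exists_isAffineOpen_mem_and_subset (x := g y) (U := (⊤ : Y.Opens)) trivial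
    obtain ⟨V, hV, hyV, hVW⟩ := exists_isAffineOpen_mem_and_subset (x := y) (U := W ⊓ g ⁻¹ᵁ U) ⟨hy, hyU⟩
    have hVWle : V ≤ W := fun z hz => (hVW hz).1
    let s : Spec Γ(Y', V) ⟶ Spec Γ(Y, U) := IsOpenImmersion.lift hU.fromSpec (hV.fromSpec ≫ g) (by
      rw [hU.range_fromSpec]
      rintro _ ⟨t, rfl⟩
      exact (hVW ((Set.ext_iff.1 hV.range_fromSpec _).1 ⟨t, rfl⟩)).2)
    have hs : s ≫ hU.fromSpec = hV.fromSpec ≫ g := IsOpenImmersion.lift_fac _ _ _
    have h1 := (isPullback_preimage (f := f') hV).paste_horiz hc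
    rw [← hs] at h1
    have h2 := IsPullback.of_hasPullback f hU.fromSpec
    have w : ((f' ⁻¹ᵁ V).ι ≫ g') ≫ f = (((f' ∣_ V) ≫ hV.isoSpec.hom) ≫ s) ≫ hU.fromSpec := by
      rw [Category.assoc (f := (f' ∣_ V) ≫ hV.isoSpec.hom)]; exact h1.w
    have h3 : IsPullback (pullback.lift ((f' ⁻¹ᵁ V).ι ≫ g') (((f' ∣_ V) ≫ hV.isoSpec.hom) ≫ s) w)
        ((f' ∣_ V) ≫ hV.isoSpec.hom) (pullback.snd f hU.fromSpec)
        (Spec.map (CommRingCat.ofHom (Spec.preimage s).hom)) := by
      rw [CommRingCat.ofHom_hom, Spec.map_preimage]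
      exact IsPullback.of_right (by rw [pullback.lift_fst]; exact h1) (pullback.lift_snd _ _ _) h2
    haveI : IsProper (pullback.snd f hU.fromSpec) := MorphismProperty.pullback_snd (P := @IsProper) _ _ inferInstance
    have hb := (baseChange (Spec.preimage s).hom h3 (fiber_dim_le_baseChange h2 hd)
      (noH1_over_affine f hd h0 hU)).2 ((surjective_app_iff hU h2).1 (hsurj U hU))
    obtain ⟨r, hr⟩ := (surjective_app_iff hV (isPullback_preimage (f := f') hV)).2 hb
      (resM ((Coh.push f').obj (Coh.structureModule X')) hVWle a)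
    exact ⟨V, hVWle, hyV, r, (Coherent.Serre.toSub_app f' V r).trans hr⟩
  intro x
  obtain ⟨r, hr⟩ := surjective_app_of_epi (Coherent.Serre.toSub f') hU' x
  exact ⟨r, (Coherent.Serre.toSub_app f' U' r).symm.trans hr⟩

/-- Vanishing after a base change meeting `y` gives vanishing on the fibre. -/
theorem noH1_fiber_of_baseChange {Y' : Scheme.{u}} (f : X ⟶ Y) [IsProper f] (g : Y' ⟶ Y) (y' : Y')
    (hd : topologicalKrullDim ↥(f.fiber (g y')) ≤ (1 : ℕ))
    (hR1 : ∀ U : Y'.Opens, IsAffineOpen U → NoH1 (pullback.snd f g ⁻¹ᵁ U).toScheme) :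
    NoH1 (f.fiber (g y')) := by
  have hc := IsPullback.of_hasPullback f g
  let f' := pullback.snd f g
  haveI : IsProper f' := MorphismProperty.pullback_snd (P := @IsProper) _ _ inferInstance
  refine (noH1_fiber_iff hc y').1 ?_
  have hd' : topologicalKrullDim ↥(f'.fiber y') ≤ (1 : ℕ) := by
    rw [FlatMorDim.fiber_dim_baseChange hc y']; exact hd
  obtain ⟨U, hU, hyU, hUW⟩ := exists_isAffineOpen_mem_and_subset (x := y')
    (U := ⟨_, FlatMorDim.isOpen_fiber_dim_le f' ((1 : ℕ) : WithBot ℕ∞)⟩) hd'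
  have h2 := IsPullback.of_hasPullback f' hU.fromSpec
  haveI : IsProper (pullback.snd f' hU.fromSpec) := MorphismProperty.pullback_snd (P := @IsProper) _ _ inferInstance
  have hdU : ∀ z, topologicalKrullDim ↥((pullback.snd f' hU.fromSpec).fiber z) ≤ (1 : ℕ) := fun z => by
    rw [FlatMorDim.fiber_dim_baseChange h2 z]
    exact hUW ((Set.ext_iff.1 hU.range_fromSpec _).1 ⟨z, rfl⟩)
  have h0 : NoH1 (pullback f' hU.fromSpec) :=
    (noH1_congr (isPullback_preimage (f := f') hU).isoPullback).1 (hR1 U hU)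
  obtain ⟨z, hz⟩ := (Set.ext_iff.1 hU.range_fromSpec y').2 hyU
  subst hz
  refine (noH1_fiber_iff h2 z).1 ?_
  let α := Spec.preimage ((Spec Γ(Y', U)).fromSpecResidueField z)
  refine (baseChange (A := Γ(Y', U)) (B := (Spec Γ(Y', U)).residueField z) α.hom
    (X' := (pullback.snd f' hU.fromSpec).fiber z) (π := pullback.snd f' hU.fromSpec)
    (π' := (pullback.snd f' hU.fromSpec).fiberToSpecResidueField z)
    (g := (pullback.snd f' hU.fromSpec).fiberι z) ?_ hdU h0).1
  rw [CommRingCat.ofHom_hom, Spec.map_preimage]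
  exact IsPullback.of_hasPullback _ _

end Groth.Agent.FlatMorH1
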