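import Groth.Agent.DualLib.RelDualizingModule
import Groth.Agent.Clifford24.Lipman.ClosedSub
import Groth.Agent.Coherent.Serre.FinitePush
import Groth.Agent.Coherent.FlatBaseChangeMain

/-!
# `H¹` on proper schemes with fibres of dimension at most one: closed base change
-/

set_option autoImplicit false
set_option backward.isDefEq.respectTransparency false
set_option linter.style.haveILetI false

universe u

open CategoryTheory CategoryTheory.Limits AlgebraicGeometry Opposite TopologicalSpace
open Groth.Agent.Coherent Groth.Agent.EulerLib Groth.Agent.DualLib.RelMod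

namespace Groth.Agent.FlatMorH1

/-- The kernel of a cobase change of a surjection is extended. -/
theorem ker_le_map_of_isPushout {A B R R' : CommRingCat.{u}} {rA : A ⟶ R} {φ : A ⟶ B} {f : R ⟶ R'}
    {b : B ⟶ R'} (h : IsPushout rA φ f b) (hφ : Function.Surjective φ) :
    RingHom.ker f.hom ≤ (RingHom.ker φ.hom).map rA.hom := by
  intro r hr
  let J : Ideal R := (RingHom.ker φ.hom).map rA.hom
  let q : R →+* (R ⧸ J) := Ideal.Quotient.mk J
  have hle : RingHom.ker φ.hom ≤ RingHom.ker (q.comp rA.hom) := fun a ha => by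
    rw [RingHom.mem_ker, RingHom.comp_apply]
    exact Ideal.Quotient.eq_zero_iff_mem.2 (Ideal.mem_map_of_mem _ ha)
  let c : B →+* (R ⧸ J) := φ.hom.liftOfSurjective hφ ⟨q.comp rA.hom, hle⟩
  have w : rA ≫ CommRingCat.ofHom q = φ ≫ CommRingCat.ofHom c := by
    ext a
    exact (φ.hom.liftOfSurjective_comp_apply hφ ⟨q.comp rA.hom, hle⟩ a).symm
  have he := ConcreteCategory.congr_hom (h.inl_desc _ _ w) r
  refine Ideal.Quotient.eq_zero_iff_mem.1 ((he.symm.trans ?_ : q r = 0))
  show (h.desc (CommRingCat.ofHom q) (CommRingCat.ofHom c) w) (f r) = 0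
  rw [RingHom.mem_ker.1 hr, map_zero]

variable {X : Scheme.{u}}

/-- Multiplication by a global function on the structure module. -/
noncomputable def smulO (t : Γ(X, ⊤)) : Coh.structureModule X ⟶ Coh.structureModule X :=
  unitDesc (Coh.structureModule X) t

theorem smulO_app (t : Γ(X, ⊤)) (U : X.Opens) (r : Γ(X, U)) :
    (smulO t).app U r = r * X.presheaf.map (homOfLE (le_top (a := U))).op t := by
  refine (app_unit (smulO t) r).trans ?_
  rw [smulO, unitVal_unitDesc]
  rfl

theorem toAb_smulO (t : Γ(X, ⊤)) :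
    (SheafOfModules.toSheaf X.ringCatSheaf).map (smulO t) = Coh.smulAb (Coh.structureModule X) t := by
  refine Sheaf.hom_ext (NatTrans.ext (funext fun U => ?_))
  ext m
  have key : ∀ m' : Γ(X, U.unop), (smulO t).app U.unop m' = X.presheaf.map (homOfLE (le_top (a := U.unop))).op t * m' :=
    fun m' => (smulO_app t U.unop m').trans (mul_comm m' _)
  exact key m

section Sigma

variable (A : Type u) [CommRing A] [X.Over (Spec (CommRingCat.of A))]

attribute [local instance] hhModule

theorem hmap_smulO (a : A) (x : Coh.HH X (Coh.structureModule X) 1) :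
    hmap A (smulO (Coh.toGlobal (X ↘ Spec (CommRingCat.of A)) a)) 1 x = a • x := by
  rw [hmap_eq, toAb_smulO]
  rfl

variable [IsProper (X ↘ Spec (CommRingCat.of A))]
variable (hd : ∀ y, topologicalKrullDim ↥((X ↘ Spec (CommRingCat.of A)).fiber y) ≤ (1 : ℕ))

include hd

theorem noH2 : Lipman24.NoH2 X := fun M hM => by
  haveI := hM
  exact subsingleton_HH_of_fibres A hd M 2 (by norm_num)

theorem iSup_range_sigma (ι : Type u) :
    ⨆ i : ι, LinearMap.range (hmap A (Sigma.ι (fun _ : ι => Coh.structureModule X) i) 1) = ⊤ := by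
  haveI := preservesColimits_Hn A hd
  let O' : QCohCat.QCoh X := ⟨Coh.structureModule X, isQCoh_structureModule⟩
  let S : X.Modules := ∐ fun _ : ι => Coh.structureModule X
  have hS : Coh.IsQCoh S := SerreDual.isQCoh_colimit X _ fun _ => isQCoh_structureModule
  let S' : QCohCat.QCoh X := ⟨S, hS⟩
  let κ : ι → (O' ⟶ S') := fun i => ObjectProperty.homMk (Sigma.ι (fun _ : ι => Coh.structureModule X) i)
  have hc : IsColimit (Cofan.mk S' κ) :=
    isColimitOfReflects (QCohCat.isQCoh X).ι
      ((isColimitMapCoconeCofanMkEquiv (QCohCat.isQCoh X).ι (fun _ : ι => O') κ).symm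
        (coproductIsCoproduct _))
  have hm := isColimitMapCoconeCofanMkEquiv (Hn A X 1) (fun _ : ι => O') κ
    (isColimitOfPreserves (Hn A X 1) hc)
  let N : Submodule A (Coh.HH X S 1) :=
    ⨆ i : ι, LinearMap.range (hmap A (Sigma.ι (fun _ : ι => Coh.structureModule X) i) 1)
  have h0 : (ModuleCat.ofHom N.mkQ : ModuleCat.of A (Coh.HH X S 1) ⟶ _) = 0 := by
    refine hm.hom_ext fun i => ?_
    rw [comp_zero]
    refine ModuleCat.hom_ext (LinearMap.ext fun x => ?_)
    exact (Submodule.Quotient.mk_eq_zero N).2 (Submodule.mem_iSup_of_mem i.as ⟨x, rfl⟩)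
  refine eq_top_iff.2 fun x _ => (Submodule.Quotient.mk_eq_zero N).1 ?_
  exact LinearMap.congr_fun (congrArg ModuleCat.Hom.hom h0) x

theorem range_hmap_le {ι : Type u} {F : X.Modules} (π : (∐ fun _ : ι => Coh.structureModule X) ⟶ F) :
    LinearMap.range (hmap A π 1) ≤
      ⨆ i : ι, LinearMap.range (hmap A (Sigma.ι (fun _ : ι => Coh.structureModule X) i ≫ π) 1) := by
  rw [← Submodule.map_top, ← iSup_range_sigma A hd ι, Submodule.map_iSup]
  refine iSup_mono fun i => ?_
  rw [← LinearMap.range_comp, ← hmap_comp]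

theorem subsingleton_H1_sigma (h : Subsingleton (Coh.HH X (Coh.structureModule X) 1)) (ι : Type u) :
    Subsingleton (Coh.HH X (∐ fun _ : ι => Coh.structureModule X) 1) := by
  rw [← Submodule.subsingleton_iff A]
  refine subsingleton_of_bot_eq_top ?_
  rw [← iSup_range_sigma A hd ι]
  refine (eq_bot_iff.2 (iSup_le fun i => ?_)).symm
  rintro _ ⟨x, rfl⟩
  rw [Subsingleton.elim x 0, map_zero]
  exact Submodule.zero_mem _

theorem subsingleton_H1_of_epi_sigma (h : Subsingleton (Coh.HH X (Coh.structureModule X) 1))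
    {ι : Type u} {F : X.Modules} (hF : Coh.IsQCoh F)
    (π : (∐ fun _ : ι => Coh.structureModule X) ⟶ F) [Epi π] : Subsingleton (Coh.HH X F 1) :=
  Lipman24.subsingleton_H1_of_epi (noH2 A hd)
    (SerreDual.isQCoh_colimit X _ fun _ => isQCoh_structureModule) hF π (subsingleton_H1_sigma A hd h ι)

end Sigma

section Closed

variable {A B : Type u} [CommRing A] [CommRing B] [Algebra A B] [X.Over (Spec (CommRingCat.of A))]
variable {X' : Scheme.{u}} [X'.Over (Spec (CommRingCat.of B))] (g : X' ⟶ X)

open Coherent.Serre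

variable (A B) in
theorem isClosedImmersion_of_pullback
    (h : IsPullback g (X' ↘ Spec (CommRingCat.of B)) (X ↘ Spec (CommRingCat.of A))
      (Spec.map (CommRingCat.ofHom (algebraMap A B))))
    (hs : Function.Surjective (algebraMap A B)) : IsClosedImmersion g :=
  MorphismProperty.of_isPullback (P := @IsClosedImmersion) h.flip
    (IsClosedImmersion.spec_of_surjective (CommRingCat.ofHom (algebraMap A B)) hs)

theorem epi_toSub [IsClosedImmersion g] : Epi (toSub g) := by
  refine epi_of_locally_surjective _ fun W a y hy => ?_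
  obtain ⟨U, hU, hyU, hUW⟩ := exists_isAffineOpen_mem_and_subset (x := y) (U := W) hy
  obtain ⟨r, hr⟩ := g.app_surjective U hU (resM ((Coh.push g).obj (Coh.structureModule X')) hUW a)
  exact ⟨U, hUW, hyU, r, (toSub_app g U r).trans hr⟩

/-- The kernel of restriction to the base change along a surjection is globally generated. -/
theorem exists_epi_kernel
    (h : IsPullback g (X' ↘ Spec (CommRingCat.of B)) (X ↘ Spec (CommRingCat.of A))
      (Spec.map (CommRingCat.ofHom (algebraMap A B))))
    (hs : Function.Surjective (algebraMap A B)) :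
    ∃ π : (∐ fun _ : RingHom.ker (algebraMap A B) => Coh.structureModule X) ⟶ kernel (toSub g), Epi π ∧
      ∀ a, Sigma.ι (fun _ : RingHom.ker (algebraMap A B) => Coh.structureModule X) a ≫ π ≫ kernel.ι (toSub g) =
        smulO (Coh.toGlobal (X ↘ Spec (CommRingCat.of A)) a.1) := by
  haveI : IsClosedImmersion g := isClosedImmersion_of_pullback A B g h hs
  have hw : ∀ a : RingHom.ker (algebraMap A B),
      smulO (Coh.toGlobal (X ↘ Spec (CommRingCat.of A)) a.1) ≫ toSub g = 0 := fun a => by
    refine Scheme.Modules.hom_ext _ _ fun U => ?_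
    ext r
    show (toSub g).app U ((smulO _).app U r) = 0
    rw [smulO_app, toSub_app, map_mul]
    have h0 : g.appTop (Coh.toGlobal (X ↘ Spec (CommRingCat.of A)) a.1) = 0 := by
      rw [appTop_toGlobal g h a.1, RingHom.mem_ker.1 a.2, map_zero]
    have h1 := ConcreteCategory.congr_hom (g.naturality (homOfLE (le_top (a := U))).op)
      (Coh.toGlobal (X ↘ Spec (CommRingCat.of A)) a.1)
    rw [show g.app U (X.presheaf.map (homOfLE (le_top (a := U))).op
        (Coh.toGlobal (X ↘ Spec (CommRingCat.of A)) a.1)) = _ from h1]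
    show _ * X'.presheaf.map _ (g.appTop _) = 0
    rw [h0, map_zero, mul_zero]
  let ψ : ∀ a : RingHom.ker (algebraMap A B), Coh.structureModule X ⟶ kernel (toSub g) :=
    fun a => kernel.lift _ _ (hw a)
  refine ⟨Sigma.desc ψ, ?_, fun a => by rw [Sigma.ι_desc_assoc]; exact kernel.lift_ι _ _ _⟩
  refine epi_of_locally_surjective _ fun W a y hy => ?_
  obtain ⟨U, hU, hyU, hUW⟩ := exists_isAffineOpen_mem_and_subset (x := y) (U := W) hy
  refine ⟨U, hUW, hyU, ?_⟩
  let r : Γ(X, U) := (kernel.ι (toSub g)).app U (resM (kernel (toSub g)) hUW a)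
  have hr : g.app U r = 0 := by
    rw [← toSub_app]
    exact congrArg (fun z : kernel (toSub g) ⟶ _ => z.app U (resM (kernel (toSub g)) hUW a))
      (kernel.condition (toSub g))
  have hp : IsBCPushout g (Coh.toGlobal (X ↘ Spec (CommRingCat.of A)))
      (Coh.toGlobal (X' ↘ Spec (CommRingCat.of B))) U := isBCPushout_of_isPullback g h hU
  have hmem := ker_le_map_of_isPushout hp hs (RingHom.mem_ker.2 hr)
  rw [Ideal.map, Ideal.span] at hmem
  let Φ := Sigma.desc ψ ≫ kernel.ι (toSub g)
  suffices hb : ∃ b, Φ.app U b = r by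
    obtain ⟨b, hb⟩ := hb
    exact ⟨b, app_injective_of_mono (kernel.ι (toSub g)) U hb⟩
  clear_value r
  clear hr
  induction hmem using Submodule.span_induction with
  | mem z hz =>
    obtain ⟨c, hc, rfl⟩ := hz
    refine ⟨(Sigma.ι (fun _ : RingHom.ker (algebraMap A B) => Coh.structureModule X) ⟨c, hc⟩).app U
      (1 : Γ(X, U)), ?_⟩
    refine (congrArg (fun z : Coh.structureModule X ⟶ Coh.structureModule X => z.app U (1 : Γ(X, U)))
      (show Sigma.ι (fun _ : RingHom.ker (algebraMap A B) => Coh.structureModule X) ⟨c, hc⟩ ≫ Φ = smulO _ by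
        rw [Sigma.ι_desc_assoc]; exact kernel.lift_ι _ _ _)).trans ?_
    rw [smulO_app, one_mul]
    rfl
  | zero => exact ⟨0, map_zero _⟩
  | add x y _ _ hx hy =>
    obtain ⟨b, rfl⟩ := hx
    obtain ⟨c, rfl⟩ := hy
    exact ⟨b + c, map_add _ _ _⟩
  | smul c x _ hx =>
    obtain ⟨b, rfl⟩ := hx
    exact ⟨c • b, Scheme.Modules.Hom.app_smul Φ c b⟩

variable [IsProper (X ↘ Spec (CommRingCat.of A))]
variable (hd : ∀ y, topologicalKrullDim ↥((X ↘ Spec (CommRingCat.of A)).fiber y) ≤ (1 : ℕ))
variable (h : IsPullback g (X' ↘ Spec (CommRingCat.of B)) (X ↘ Spec (CommRingCat.of A))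
      (Spec.map (CommRingCat.ofHom (algebraMap A B))))
variable (hs : Function.Surjective (algebraMap A B))

include hd h hs

theorem subsingleton_H1_closed (h0 : Subsingleton (Coh.HH X (Coh.structureModule X) 1)) :
    Subsingleton (Coh.HH X' (Coh.structureModule X') 1) := by
  haveI : IsClosedImmersion g := isClosedImmersion_of_pullback A B g h hs
  exact Lipman24.subsingleton_H1_structure g (noH2 A hd) h0

theorem surjective_appTop_closed (h0 : Subsingleton (Coh.HH X (Coh.structureModule X) 1)) :
    Function.Surjective g.appTop := by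
  haveI : IsClosedImmersion g := isClosedImmersion_of_pullback A B g h hs
  obtain ⟨π, hπ, -⟩ := exists_epi_kernel g h hs
  haveI : Epi (toSub g) := epi_toSub g
  let S : ShortComplex X.Modules := ShortComplex.mk (kernel.ι (toSub g)) (toSub g) (kernel.condition _)
  have hS : S.ShortExact := { exact := ShortComplex.exact_kernel (toSub g) }
  intro x
  obtain ⟨r, hr⟩ := Lipman24.surjective_app_top hS
    (subsingleton_H1_of_epi_sigma A hd h0 (isQCoh_kernel_toSub g) π) x
  exact ⟨r, (toSub_app g ⊤ r).symm.trans hr⟩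

attribute [local instance] hhModule

/-- If the closed base change has no `H¹`, then `H¹` is `I`-divisible. -/
theorem smul_top_eq_top (h0 : Subsingleton (Coh.HH X' (Coh.structureModule X') 1)) :
    (RingHom.ker (algebraMap A B)) • (⊤ : Submodule A (Coh.HH X (Coh.structureModule X) 1)) = ⊤ := by
  haveI : IsClosedImmersion g := isClosedImmersion_of_pullback A B g h hs
  obtain ⟨π, hπ, hπι⟩ := exists_epi_kernel g h hs
  haveI : Epi (toSub g) := epi_toSub g
  haveI hK : Coh.IsQCoh (kernel (toSub g)) := isQCoh_kernel_toSub g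
  haveI hQ : Coh.IsQCoh (∐ fun _ : RingHom.ker (algebraMap A B) => Coh.structureModule X) :=
    SerreDual.isQCoh_colimit X _ fun _ => isQCoh_structureModule
  haveI hKπ : Coh.IsQCoh (kernel π) := isQCoh_kernel π
  haveI : Coh.IsQCoh (Coh.structureModule X') := isQCoh_structureModule
  let S : ShortComplex X.Modules := ShortComplex.mk (kernel.ι (toSub g)) (toSub g) (kernel.condition _)
  have hS : S.ShortExact := { exact := ShortComplex.exact_kernel (toSub g) }
  let T : ShortComplex X.Modules := ShortComplex.mk (kernel.ι π) π (kernel.condition _)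
  have hT : T.ShortExact := { exact := ShortComplex.exact_kernel π }
  haveI : Subsingleton (Coh.HH X S.X₃ 1) := (HHAffinePushEquiv g _ 1).symm.toEquiv.subsingleton
  have h1 : Function.Surjective (hmap A (kernel.ι (toSub g)) 1) := fun x =>
    (exact_hmap A hS 1 x).1 (Subsingleton.elim _ _)
  have h2 : Function.Surjective (hmap A π 1) :=
    hmap_surjective A hT 1 (subsingleton_HH_of_fibres A hd (kernel π) 2 (by norm_num))
  have h3 : LinearMap.range (hmap A (π ≫ kernel.ι (toSub g)) 1) = ⊤ := by
    rw [hmap_comp]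
    exact LinearMap.range_eq_top.2 (h1.comp h2)
  refine eq_top_iff.2 (h3.symm.le.trans ((range_hmap_le A hd _).trans (iSup_le fun a => ?_)))
  rintro _ ⟨x, rfl⟩
  rw [hπι, hmap_smulO]
  exact Submodule.smul_mem_smul a.2 trivial

end Closed

end Groth.Agent.FlatMorH1
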