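import Groth.Agent.FlatMorH1.Main

/-!
# `H¹` near a fibre
-/

set_option autoImplicit false
set_option backward.isDefEq.respectTransparency false
set_option linter.style.haveILetI false

universe u

open CategoryTheory CategoryTheory.Limits AlgebraicGeometry Opposite TopologicalSpace
open Groth.Agent.Coherent
open scoped TensorProduct

namespace Groth.Agent.FlatMorH1

variable {X X' Y Y' : Scheme.{u}}

theorem exists_smul_eq_zero {A M : Type*} [CommRing A] [AddCommGroup M] [Module A M] [Module.Finite A M]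
    (S : Submonoid A) (h : ∀ x : M, ∃ s : S, s • x = 0) : ∃ c : S, ∀ x : M, (c : A) • x = 0 := by
  classical
  choose s hs using h
  obtain ⟨G, hG⟩ := (Module.Finite.fg_top (R := A) (M := M))
  refine ⟨G.prod s, fun x => ?_⟩
  have hxG : x ∈ Submodule.span A (G : Set M) := hG ▸ Submodule.mem_top
  induction hxG using Submodule.span_induction with
  | mem g hg =>
    rw [← Finset.prod_erase_mul G s (Finset.mem_coe.1 hg), Submonoid.coe_mul, mul_smul]
    exact (congrArg _ (hs g)).trans (smul_zero _)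
  | zero => exact smul_zero _
  | add a b _ _ ha hb => rw [smul_add, ha, hb, add_zero]
  | smul r a _ ha => rw [smul_comm, ha, smul_zero]

theorem subsingleton_tensor_of_smul_eq_zero {A B M : Type*} [CommRing A] [CommRing B] [Algebra A B]
    [AddCommGroup M] [Module A M] (c : A) (hc : ∀ x : M, c • x = 0) (hu : IsUnit (algebraMap A B c)) :
    Subsingleton (B ⊗[A] M) := subsingleton_of_forall_eq 0 fun t => by
  induction t using TensorProduct.induction_on with
  | zero => rfl
  | add u v hu hv => rw [hu, hv, add_zero]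
  | tmul b x =>
    obtain ⟨w, hw⟩ := hu
    rw [show b = c • (↑w⁻¹ * b) by rw [Algebra.smul_def, ← hw, ← mul_assoc, Units.mul_inv, one_mul],
      TensorProduct.smul_tmul, hc, TensorProduct.tmul_zero]

theorem fiber_self_dim {K : Type u} [Field K] {Z : Scheme.{u}} (p : Z ⟶ Spec (CommRingCat.of K)) {c : WithBot ℕ∞}
    (h : topologicalKrullDim Z ≤ c) (y : ↥(Spec (CommRingCat.of K))) : topologicalKrullDim ↥(p.fiber y) ≤ c :=
  ((IsHomeomorph.topologicalKrullDim_eq _ (p.fiberHomeo y).isHomeomorph).le.trans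
    (Topology.IsEmbedding.subtypeVal.isInducing.topologicalKrullDim_le)).trans h

theorem noH1_fiber_iff {g : X' ⟶ X} {π' : X' ⟶ Y'} {π : X ⟶ Y} {q : Y' ⟶ Y} (h : IsPullback g π' π q)
    [IsProper π] (y' : Y') : NoH1 (π'.fiber y') ↔ NoH1 (π.fiber (q y')) := by
  letI : Algebra (Y.residueField (q y')) (Y'.residueField y') := (q.residueFieldMap y').hom.toAlgebra
  have hsq := isPullback_fiberToSpecResidueField_of_isPullback h y'
  haveI : IsProper (π.fiberToSpecResidueField (q y')) :=
    MorphismProperty.pullback_snd (P := @IsProper) π _ inferInstance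
  let p := π.fiberToSpecResidueField (q y')
  haveI : CompactSpace (π.fiber (q y')) := QuasiCompact.compactSpace_of_compactSpace p
  haveI : QuasiSeparatedSpace (π.fiber (q y')) := quasiSeparatedSpace_of_quasiSeparated p
  letI : (π.fiber (q y')).Over (Spec (CommRingCat.of (Y.residueField (q y')))) := ⟨p⟩
  letI : (π'.fiber y').Over (Spec (CommRingCat.of (Y'.residueField y'))) := ⟨π'.fiberToSpecResidueField y'⟩
  refine ⟨fun h' => ?_, fun h0 => noH1_flat (X := π.fiber (q y')) (X' := π'.fiber y') (A := Y.residueField (q y')) (B := Y'.residueField y') _ hsq h0⟩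
  obtain ⟨e⟩ := nonempty_H1_flat (X := π.fiber (q y')) (X' := π'.fiber y') (A := Y.residueField (q y')) (B := Y'.residueField y') _ hsq
  have hsub := e.toEquiv.subsingleton_congr.2 h'
  exact Module.FaithfullyFlat.lTensor_reflects_triviality (Y.residueField (q y')) (Y'.residueField y') _

/-- Vanishing on all fibres gives vanishing. -/
theorem noH1_of_fibres {A : Type u} [CommRing A] (π : X ⟶ Spec (CommRingCat.of A)) [IsProper π]
    (hd : ∀ y, topologicalKrullDim ↥(π.fiber y) ≤ (1 : ℕ)) (h0 : ∀ y, NoH1 (π.fiber y)) : NoH1 X := by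
  letI : X.Over (Spec (CommRingCat.of A)) := ⟨π⟩
  haveI : CompactSpace X := QuasiCompact.compactSpace_of_compactSpace π
  haveI : QuasiSeparatedSpace X := quasiSeparatedSpace_of_quasiSeparated π
  refine subsingleton_of_forall_eq 0 fun x => ?_
  by_contra hx
  obtain ⟨m, hm, hle⟩ := Ideal.exists_le_maximal (Ideal.torsionOf A (Coh.HH X (Coh.structureModule X) 1) x)
    (fun ht => hx ((one_smul A x).symm.trans (by
      have : (1 : A) ∈ Ideal.torsionOf A (Coh.HH X (Coh.structureModule X) 1) x := ht ▸ trivial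
      exact this)))
  haveI := hm.isPrime
  let Am := Localization.AtPrime m
  let q := Spec.map (CommRingCat.ofHom (algebraMap A Am))
  let Xm := pullback π q
  let πm : Xm ⟶ Spec (CommRingCat.of Am) := pullback.snd π q
  have hsq : IsPullback (pullback.fst π q) πm π q := IsPullback.of_hasPullback π q
  haveI : IsProper πm := MorphismProperty.pullback_snd (P := @IsProper) π q inferInstance
  have hdm := fiber_dim_le_baseChange hsq hd (IsLocalRing.closedPoint Am)
  have hm0 : NoH1 Xm := noH1_of_local πm hdm ((noH1_fiber_iff hsq _).2 (h0 _))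
  letI : Xm.Over (Spec (CommRingCat.of Am)) := ⟨πm⟩
  obtain ⟨e⟩ := nonempty_H1_flat (A := A) (B := Am) (pullback.fst π q) hsq
  haveI := e.toEquiv.subsingleton_congr.2 hm0
  haveI : IsLocalizedModule m.primeCompl (TensorProduct.mk A Am (Coh.HH X (Coh.structureModule X) 1) 1) :=
    (isLocalizedModule_iff_isBaseChange m.primeCompl Am _).2 (TensorProduct.isBaseChange _ _ _)
  obtain ⟨s, hs⟩ := (IsLocalizedModule.eq_zero_iff m.primeCompl
    (TensorProduct.mk A Am (Coh.HH X (Coh.structureModule X) 1) 1)).1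
    (Subsingleton.elim (TensorProduct.mk A Am (Coh.HH X (Coh.structureModule X) 1) 1 x) 0)
  exact s.2 (hle hs)

theorem finite_H1_of_model {A : Type u} [CommRing A] (π : X ⟶ Spec (CommRingCat.of A))
    (hm : H8Lim.HasModel π 1) :
    letI : X.Over (Spec (CommRingCat.of A)) := ⟨π⟩
    Module.Finite A (Coh.HH X (Coh.structureModule X) 1) := by
  letI : X.Over (Spec (CommRingCat.of A)) := ⟨π⟩
  have hcoh : Coh.IsCoh (Coh.structureModule X) :=
    (isCoh_iff_finite_sections _).2 ⟨isQCoh_structureModule, fun U _ => Module.Finite.self Γ(X, U)⟩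
  have hH := hm.finite_HA (Coh.structureModule X) hcoh
  exact finite_of_semilinear (A := Γ(Spec (CommRingCat.of A), ⊤))
    (M := HA π.appTop.hom (Coh.structureModule X) (⊤ : X.Opens) 1)
    (HHLinEquiv (Coh.structureModule X) 1).symm.toAddEquiv.toAddMonoidHom
    (HHLinEquiv (Coh.structureModule X) 1).symm.surjective fun a x =>
    ⟨(Scheme.ΓSpecIso (CommRingCat.of A)).hom a, by
      refine ((HHLinEquiv (Coh.structureModule X) 1).symm.map_smul (π.appTop a) x).trans ?_
      exact (congrArg (fun t : Γ(X, ⊤) => t • (HHLinEquiv (Coh.structureModule X) 1).symm x)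
        (congrArg π.appTop (Iso.hom_inv_id_apply (Scheme.ΓSpecIso (CommRingCat.of A)) a))).symm⟩

/-- A finite module vanishing at a prime is killed outside it; geometric form. -/
theorem exists_away {A : Type u} [CommRing A] (π : X ⟶ Spec (CommRingCat.of A)) [IsProper π]
    (hm : H8Lim.HasModel π 1) (y : ↥(Spec (CommRingCat.of A)))
    (hd : topologicalKrullDim ↥(π.fiber y) ≤ (1 : ℕ)) (h0 : NoH1 (π.fiber y)) :
    ∃ f : A, f ∉ y.asIdeal ∧
      NoH1 (pullback π (Spec.map (CommRingCat.ofHom (algebraMap A (Localization.Away f))))) ∧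
      ∀ z, topologicalKrullDim
        ↥((pullback.snd π (Spec.map (CommRingCat.ofHom (algebraMap A (Localization.Away f))))).fiber z) ≤ (1 : ℕ) := by
  letI : X.Over (Spec (CommRingCat.of A)) := ⟨π⟩
  haveI : CompactSpace X := QuasiCompact.compactSpace_of_compactSpace π
  haveI : QuasiSeparatedSpace X := quasiSeparatedSpace_of_quasiSeparated π
  haveI := finite_H1_of_model π hm
  let M := Coh.HH X (Coh.structureModule X) 1
  let m := y.asIdeal
  let Am := Localization.AtPrime m
  let q := Spec.map (CommRingCat.ofHom (algebraMap A Am))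
  let Xm := pullback π q
  let πm : Xm ⟶ Spec (CommRingCat.of Am) := pullback.snd π q
  have hsq : IsPullback (pullback.fst π q) πm π q := IsPullback.of_hasPullback π q
  haveI : IsProper πm := MorphismProperty.pullback_snd (P := @IsProper) π q inferInstance
  have hqy : q (IsLocalRing.closedPoint Am) = y :=
    PrimeSpectrum.ext (Localization.AtPrime.comap_maximalIdeal (I := m))
  have hdm : topologicalKrullDim ↥(πm.fiber (IsLocalRing.closedPoint Am)) ≤ (1 : ℕ) := by
    rw [FlatMorDim.fiber_dim_baseChange hsq (IsLocalRing.closedPoint Am), hqy]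
    exact hd
  have hfib : NoH1 (π.fiber (q (IsLocalRing.closedPoint Am))) := hqy.symm ▸ h0
  have hm0 : NoH1 Xm := noH1_of_local πm hdm ((noH1_fiber_iff hsq _).2 hfib)
  letI : Xm.Over (Spec (CommRingCat.of Am)) := ⟨πm⟩
  obtain ⟨e⟩ := nonempty_H1_flat (A := A) (B := Am) (pullback.fst π q) hsq
  haveI := e.toEquiv.subsingleton_congr.2 hm0
  haveI : IsLocalizedModule m.primeCompl (TensorProduct.mk A Am M 1) :=
    (isLocalizedModule_iff_isBaseChange m.primeCompl Am _).2 (TensorProduct.isBaseChange _ _ _)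
  obtain ⟨c, hc⟩ := exists_smul_eq_zero (A := A) (M := M) m.primeCompl fun x =>
    (IsLocalizedModule.eq_zero_iff m.primeCompl (TensorProduct.mk A Am M 1)).1
      (Subsingleton.elim (TensorProduct.mk A Am M 1 x) 0)
  obtain ⟨_, ⟨h, rfl⟩, hyh, hhW⟩ := PrimeSpectrum.isTopologicalBasis_basic_opens.exists_subset_of_mem_open
    (show y ∈ {z | topologicalKrullDim ↥(π.fiber z) ≤ (1 : ℕ)} from hd) (FlatMorDim.isOpen_fiber_dim_le π _)
  refine ⟨(c : A) * h, fun hmem => ((inferInstance : m.IsPrime).mem_or_mem hmem).elim c.2 hyh, ?_, fun z => ?_⟩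
  · let Af := Localization.Away ((c : A) * h)
    let qf := Spec.map (CommRingCat.ofHom (algebraMap A Af))
    letI : (pullback π qf).Over (Spec (CommRingCat.of Af)) := ⟨pullback.snd π qf⟩
    obtain ⟨ef⟩ := nonempty_H1_flat (A := A) (B := Af) (pullback.fst π qf) (IsPullback.of_hasPullback π qf)
    have hu : IsUnit (algebraMap A Af (c : A)) :=
      isUnit_of_mul_isUnit_left (by rw [← map_mul]; exact IsLocalization.Away.algebraMap_isUnit ((c : A) * h))
    haveI : Subsingleton (Af ⊗[A] M) := subsingleton_tensor_of_smul_eq_zero (c : A) hc hu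
    exact ef.symm.toEquiv.subsingleton
  · rw [FlatMorDim.fiber_dim_baseChange (IsPullback.of_hasPullback π _) z]
    refine hhW ?_
    show h ∉ Ideal.comap (algebraMap A (Localization.Away ((c : A) * h))) z.asIdeal
    intro hmem
    refine z.isPrime.ne_top (Ideal.eq_top_of_isUnit_mem _ hmem ?_)
    exact isUnit_of_mul_isUnit_right (by
      rw [← map_mul]; exact IsLocalization.Away.algebraMap_isUnit ((c : A) * h))

/-- Near a fibre without `H¹` there is an affine neighbourhood without `H¹`. -/
theorem exists_nhd (π : X ⟶ Y) [IsProper π] (y : Y) (hd : topologicalKrullDim ↥(π.fiber y) ≤ (1 : ℕ))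
    (h0 : NoH1 (π.fiber y)) :
    ∃ (B : Type u) (_ : CommRing B) (q : Spec (CommRingCat.of B) ⟶ Y), IsOpenImmersion q ∧ y ∈ Set.range q ∧
      NoH1 (pullback π q) ∧ ∀ z, topologicalKrullDim ↥((pullback.snd π q).fiber z) ≤ (1 : ℕ) := by
  obtain ⟨V, hy, hV, hm⟩ := H8Lim.exists_model_nhd π y 1 hd
  let A : Type u := Γ(Y, V)
  let j : Spec (CommRingCat.of A) ⟶ Y := hV.fromSpec
  let XA := pullback π j
  let πA : XA ⟶ Spec (CommRingCat.of A) := pullback.snd π j
  haveI : IsProper πA := MorphismProperty.pullback_snd (P := @IsProper) π j inferInstance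
  have hj : hV.isoSpec.inv ≫ V.ι = j := hV.isoSpec_inv_ι
  have hsV := (isPullback_morphismRestrict π V).flip
  have w : pullback.fst π j ≫ π = (πA ≫ hV.isoSpec.inv) ≫ V.ι := by
    rw [Category.assoc, hj]; exact pullback.condition
  have hmA : H8Lim.HasModel πA 1 := hm.baseChange (t := hV.isoSpec.inv)
    (a := hsV.lift (pullback.fst π j) (πA ≫ hV.isoSpec.inv) w) (p' := πA)
    (IsPullback.of_right (by rw [IsPullback.lift_fst, hj]; exact IsPullback.of_hasPullback π j)
      (IsPullback.lift_snd _ _ _ _) hsV)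
  obtain ⟨y', rfl⟩ : y ∈ Set.range j := (Set.ext_iff.1 hV.range_fromSpec y).2 hy
  have hsq : IsPullback (pullback.fst π j) πA π j := IsPullback.of_hasPullback π j
  obtain ⟨f, hf, hN, hdim⟩ := exists_away πA hmA y'
    (by rw [FlatMorDim.fiber_dim_baseChange hsq y']; exact hd) ((noH1_fiber_iff hsq y').2 h0)
  let qf := Spec.map (CommRingCat.ofHom (algebraMap A (Localization.Away f)))
  haveI : IsOpenImmersion qf := IsOpenImmersion.of_isLocalization f
  refine ⟨Localization.Away f, inferInstance, qf ≫ j, inferInstance, ?_, ?_, fun z => ?_⟩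
  · have : y' ∈ Set.range qf := by
      show y' ∈ Set.range (PrimeSpectrum.comap (algebraMap A (Localization.Away f)))
      rw [PrimeSpectrum.localization_away_comap_range (Localization.Away f) f]
      exact hf
    obtain ⟨w, hw⟩ := this
    exact ⟨w, congrArg j hw⟩
  · exact (noH1_congr (pullbackLeftPullbackSndIso π j qf)).1 hN
  · have hsq' := IsPullback.of_hasPullback π (qf ≫ j)
    rw [FlatMorDim.fiber_dim_baseChange hsq' z]
    have := hdim z
    rwa [FlatMorDim.fiber_dim_baseChange (IsPullback.of_hasPullback πA qf) z,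
      FlatMorDim.fiber_dim_baseChange hsq] at this

/-- The cohomology over an open is the cohomology of the open subscheme. -/
theorem noH1_HHon (U : X.Opens) (h : NoH1 U.toScheme) :
    Subsingleton (Coh.HHon X (Coh.structureModule X) U 1) := by
  obtain ⟨i⟩ := AmpleLib.exists_pullStructureIso (X := X) U.ι
  exact (((Sheaf.functorH (Opens.grothendieckTopology U.toScheme) 1).mapIso
    ((SheafOfModules.toSheaf U.toScheme.ringCatSheaf).mapIso
      ((Scheme.Modules.restrictFunctorIsoPullback U.ι).app (Coh.structureModule X) ≪≫ i))).addCommGroupIsoToAddEquiv).toEquiv.subsingleton_congr.2 h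

theorem noH1_of_HHon (U : X.Opens) (h : Subsingleton (Coh.HHon X (Coh.structureModule X) U 1)) :
    NoH1 U.toScheme := by
  obtain ⟨i⟩ := AmpleLib.exists_pullStructureIso (X := X) U.ι
  exact (((Sheaf.functorH (Opens.grothendieckTopology U.toScheme) 1).mapIso
    ((SheafOfModules.toSheaf U.toScheme.ringCatSheaf).mapIso
      ((Scheme.Modules.restrictFunctorIsoPullback U.ι).app (Coh.structureModule X) ≪≫ i))).addCommGroupIsoToAddEquiv).toEquiv.subsingleton_congr.1 h

/-- Base change into the neighbourhood. -/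
theorem noH1_preimage {B : Type u} [CommRing B] {q : Spec (CommRingCat.of B) ⟶ Y} {π : X ⟶ Y} [IsProper π]
    (h0 : NoH1 (pullback π q)) (hd : ∀ z, topologicalKrullDim ↥((pullback.snd π q).fiber z) ≤ (1 : ℕ))
    {T P : Scheme.{u}} {a : P ⟶ X} {b : P ⟶ T} {t : T ⟶ Spec (CommRingCat.of B)}
    (h : IsPullback a b π (t ≫ q)) {U : T.Opens} (hU : IsAffineOpen U) :
    NoH1 (b ⁻¹ᵁ U).toScheme := by
  let s : Spec Γ(T, U) ⟶ Spec (CommRingCat.of B) := hU.fromSpec ≫ t
  have h1 : IsPullback ((b ⁻¹ᵁ U).ι ≫ a) (b ∣_ U) π (U.ι ≫ t ≫ q) :=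
    (isPullback_morphismRestrict b U).flip.paste_horiz h
  have h2 : IsPullback ((b ⁻¹ᵁ U).ι ≫ a) ((b ∣_ U) ≫ hU.isoSpec.hom) π (s ≫ q) :=
    h1.of_iso (Iso.refl _) (Iso.refl _) hU.isoSpec (Iso.refl _) (by simp) (by simp) (by simp)
      (by
        show (U.ι ≫ t ≫ q) ≫ 𝟙 Y = hU.isoSpec.hom ≫ (hU.fromSpec ≫ t) ≫ q
        rw [Category.comp_id, ← hU.isoSpec_inv_ι, Category.assoc, Category.assoc, Iso.hom_inv_id_assoc])
  have w : ((b ⁻¹ᵁ U).ι ≫ a) ≫ π = (((b ∣_ U) ≫ hU.isoSpec.hom) ≫ s) ≫ q := by rw [Category.assoc]; exact h2.w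
  have h3 : IsPullback (pullback.lift ((b ⁻¹ᵁ U).ι ≫ a) (((b ∣_ U) ≫ hU.isoSpec.hom) ≫ s) w)
      ((b ∣_ U) ≫ hU.isoSpec.hom) (pullback.snd π q) (Spec.map (CommRingCat.ofHom (Spec.preimage s).hom)) := by
    rw [CommRingCat.ofHom_hom, Spec.map_preimage]
    exact IsPullback.of_right (by rw [pullback.lift_fst]; exact h2) (pullback.lift_snd _ _ _)
      (IsPullback.of_hasPullback π q)
  haveI : IsProper (pullback.snd π q) := MorphismProperty.pullback_snd (P := @IsProper) π q inferInstance
  exact (baseChange (Spec.preimage s).hom h3 hd h0).1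

end Groth.Agent.FlatMorH1
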